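import Groth.Agent.GeomReg.Basic
import Groth.Agent.AlgSpLib.CartierDepth
import Groth.Agent.SchTop.Closed
import Groth.Agent.BlowUpX.Basic
import Groth.Agent.BlowUpLib.Glue
import Groth.Agent.S0560
import Groth.Agent.S0564
import Mathlib.AlgebraicGeometry.Morphisms.Smooth

/-!
# Regularity of blow-ups with smooth exceptional divisor
-/

set_option linter.style.haveILetI false

universe u

open CategoryTheory Limits AlgebraicGeometry TensorProduct

namespace Groth.Agent.BlowExc

theorem regular_atPrime_congr {R : Type u} [CommRing R] {p q : Ideal R} [p.IsPrime] [q.IsPrime] (h : p = q)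
    [IsRegularLocalRing (Localization.AtPrime p)] : IsRegularLocalRing (Localization.AtPrime q) := by
  subst h
  assumption

/-- Generalizations of regular points are regular. -/
theorem regular_of_specializes {X : Scheme.{u}} {x z : X} (h : x ⤳ z)
    [IsRegularLocalRing (X.presheaf.stalk z)] : IsRegularLocalRing (X.presheaf.stalk x) := by
  obtain ⟨_, ⟨U, hU, rfl⟩, hzU, -⟩ :=
    X.isBasis_affineOpens.exists_subset_of_mem_open (Set.mem_univ z) isOpen_univ
  have hxU : x ∈ U := h.mem_open U.isOpen hzU
  obtain ⟨ez⟩ := SchTop.nonempty_stalk_equiv hU hzU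
  obtain ⟨ex⟩ := SchTop.nonempty_stalk_equiv hU hxU
  let q := (hU.primeIdealOf ⟨x, hxU⟩).asIdeal
  let M := (hU.primeIdealOf ⟨z, hzU⟩).asIdeal.primeCompl
  have hdis : Disjoint (M : Set Γ(X, U)) (q : Set Γ(X, U)) :=
    Set.disjoint_left.2 fun a ha hb => ha (SchTop.primeIdealOf_le hU hxU hzU h hb)
  haveI : (q.map (algebraMap Γ(X, U) (Localization M))).IsPrime :=
    IsLocalization.isPrime_of_isPrime_disjoint M _ q inferInstance hdis
  have hcom : (q.map (algebraMap Γ(X, U) (Localization M))).comap (algebraMap Γ(X, U) (Localization M)) = q :=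
    IsLocalization.under_map_of_isPrime_disjoint M _ inferInstance hdis
  haveI : IsRegularLocalRing (Localization M) := IsRegularLocalRing.of_ringEquiv ez
  haveI := S0564.result (Localization M) (q.map (algebraMap Γ(X, U) (Localization M)))
  have e1 := (IsLocalization.localizationLocalizationAtPrimeIsoLocalization M
    (q.map (algebraMap Γ(X, U) (Localization M)))).toRingEquiv.symm
  haveI := IsRegularLocalRing.of_ringEquiv e1
  haveI := regular_atPrime_congr hcom
  exact IsRegularLocalRing.of_ringEquiv ex.symm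

attribute [local instance] Algebra.TensorProduct.rightAlgebra in
/-- Regularity at a prime ascends along a smooth algebra. -/
theorem regular_of_smooth (A B : Type u) [CommRing A] [CommRing B] [Algebra A B] [Algebra.Smooth A B]
    [IsNoetherianRing A] (q : Ideal B) [q.IsPrime]
    [IsRegularLocalRing (Localization.AtPrime (q.comap (algebraMap A B)))] :
    IsRegularLocalRing (Localization.AtPrime q) := by
  let p := q.comap (algebraMap A B)
  haveI : IsNoetherianRing B := Algebra.FiniteType.isNoetherianRing A B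
  let Ap := Localization.AtPrime p
  haveI : IsRegularRing Ap := by
    rw [isRegularRing_iff]
    intro P _
    exact S0564.result Ap P
  let C := Ap ⊗[A] B
  haveI : IsRegularRing C := GeomReg.isRegularRing_of_smooth Ap C
  have hdis : Disjoint (Algebra.algebraMapSubmonoid B p.primeCompl : Set B) (q : Set B) :=
    Set.disjoint_left.2 fun b hb hbq => by
      obtain ⟨a, ha, rfl⟩ := hb
      exact ha hbq
  haveI : (q.map (algebraMap B C)).IsPrime :=
    IsLocalization.isPrime_of_isPrime_disjoint (Algebra.algebraMapSubmonoid B p.primeCompl) _ q ‹_› hdis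
  haveI : IsNoetherianRing C :=
    IsLocalization.isNoetherianRing (Algebra.algebraMapSubmonoid B p.primeCompl) C inferInstance
  have := (RegLoc6.regular_iff_localization (Algebra.algebraMapSubmonoid B p.primeCompl) C
    (q.map (algebraMap B C))).1 (IsRegularRing.isRegularLocalRing_localization _)
  haveI := this
  exact regular_atPrime_congr (IsLocalization.under_map_of_isPrime_disjoint
    (Algebra.algebraMapSubmonoid B p.primeCompl) C ‹_› hdis)

/-- Regularity at a point ascends along a smooth morphism. -/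
theorem regular_stalk_of_smooth {X Y : Scheme.{u}} [IsLocallyNoetherian Y] (f : X ⟶ Y) [Smooth f]
    (x : X) [IsRegularLocalRing (Y.presheaf.stalk (f x))] : IsRegularLocalRing (X.presheaf.stalk x) := by
  obtain ⟨_, ⟨V, hV, rfl⟩, hxV, -⟩ :=
    Y.isBasis_affineOpens.exists_subset_of_mem_open (Set.mem_univ (f x)) isOpen_univ
  obtain ⟨_, ⟨U, hU, rfl⟩, hxU, hUV⟩ :=
    X.isBasis_affineOpens.exists_subset_of_mem_open (show x ∈ f ⁻¹ᵁ V from hxV) (f ⁻¹ᵁ V).isOpen
  let φ := (f.appLE V U hUV).hom
  letI := φ.toAlgebra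
  haveI : Algebra.Smooth Γ(Y, V) Γ(X, U) :=
    (HasRingHomProperty.appLE @Smooth f ‹_› ⟨V, hV⟩ ⟨U, hU⟩ hUV : φ.Smooth)
  haveI : IsNoetherianRing Γ(Y, V) := IsLocallyNoetherian.component_noetherian ⟨V, hV⟩
  obtain ⟨ey⟩ := SchTop.nonempty_stalk_equiv hV hxV
  obtain ⟨ex⟩ := SchTop.nonempty_stalk_equiv hU hxU
  let q := (hU.primeIdealOf ⟨x, hxU⟩).asIdeal
  have hq : (hV.primeIdealOf ⟨f x, hxV⟩).asIdeal = q.comap (algebraMap Γ(Y, V) Γ(X, U)) :=
    (congrArg PrimeSpectrum.asIdeal (IsAffineOpen.comap_primeIdealOf_appLE V hV U hU hUV hxU)).symm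
  haveI := IsRegularLocalRing.of_ringEquiv ey
  haveI := regular_atPrime_congr hq
  haveI := regular_of_smooth Γ(Y, V) Γ(X, U) q
  exact IsRegularLocalRing.of_ringEquiv ex.symm

/-- A scheme is regular where an effective Cartier divisor is regular. -/
theorem regular_of_cartier {X : Scheme.{u}} [IsLocallyNoetherian X] {D : X.IdealSheafData}
    (hD : BlowUp.IsEffCartierIdeal D) (d : ↥D.subscheme) [IsRegularLocalRing (D.subscheme.presheaf.stalk d)] :
    IsRegularLocalRing (X.presheaf.stalk (D.subschemeι d)) := by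
  obtain ⟨g, hg, hker⟩ := AlgSpLib.CartierDepth.exists_stalk_generator hD d
  let φ : X.presheaf.stalk (D.subschemeι d) →+* D.subscheme.presheaf.stalk d := (D.subschemeι.stalkMap d).hom
  have hφ : Function.Surjective φ := D.subschemeι.stalkMap_surjective d
  let e : X.presheaf.stalk (D.subschemeι d) ⧸ Ideal.span {g} ≃+* D.subscheme.presheaf.stalk d :=
    (Ideal.quotEquivOfEq hker.symm).trans (RingHom.quotientKerEquivOfSurjective hφ)
  haveI := IsRegularLocalRing.of_ringEquiv e.symm
  exact S0560.result _ g (IsLocalRing.le_maximalIdeal (RingHom.ker_ne_top φ)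
    (hker ▸ Ideal.mem_span_singleton_self g)) hg

/-- Blowing up a regular centre with smooth exceptional divisor: regularity away from the centre. -/
theorem regular_generization {X X' : Scheme.{u}} [IsLocallyNoetherian X]
    (C : X.IdealSheafData) (b : X' ⟶ X) (hb : BlowUp.IsBlowUp b C)
    (g : (BlowUp.exceptional b C).subscheme ⟶ C.subscheme)
    (hg : g ≫ C.subschemeι = (BlowUp.exceptional b C).subschemeι ≫ b)
    [Smooth g] (y : ↥C.subscheme) [IsRegularLocalRing (C.subscheme.presheaf.stalk y)] (x₁ : ↥X)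
    (hgen : x₁ ⤳ C.subschemeι y) (hx₁ : x₁ ∉ C.support) : IsRegularLocalRing (X.presheaf.stalk x₁) := by
  have hft : BlowUp.IsFiniteTypeIdeal C := fun U => by
    haveI : IsNoetherianRing Γ(X, U) := IsLocallyNoetherian.component_noetherian U
    exact IsNoetherian.noetherian _
  haveI : IsProper b := BlowUpLib.isProper_of_isBlowUp C hb hft
  haveI : IsLocallyNoetherian X' := LocallyOfFiniteType.isLocallyNoetherian b
  haveI : IsLocallyNoetherian C.subscheme := LocallyOfFiniteType.isLocallyNoetherian C.subschemeι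
  haveI : IsIso (b ∣_ C.support.compl) := BlowUpX.isIso_restrict hb
  let U : X.Opens := C.support.compl
  obtain ⟨w, hw⟩ := (b ∣_ C.support.compl).homeomorph.surjective (⟨x₁, hx₁⟩ : ↥(C.support.compl : X.Opens))
  have hwx : U.ι ((b ∣_ U) w) = x₁ := congrArg Subtype.val hw
  have hw' : b w.1 = x₁ := by
    rw [← hwx, ← Scheme.Hom.comp_apply, morphismRestrict_ι, Scheme.Hom.comp_apply]
    rfl
  obtain ⟨z, hz, hzy⟩ : ∃ z : X', w.1 ⤳ z ∧ b z = C.subschemeι y := by
    have hcl : IsClosed (b '' closure {w.1}) := b.isClosedMap _ isClosed_closure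
    obtain ⟨z, hz, hzy⟩ := hgen.mem_closed hcl ⟨w.1, subset_closure rfl, hw'⟩
    exact ⟨z, specializes_iff_mem_closure.2 hz, hzy⟩
  obtain ⟨d, hd⟩ : z ∈ Set.range (BlowUp.exceptional b C).subschemeι := by
    rw [Scheme.IdealSheafData.range_subschemeι, BlowUp.exceptional, Scheme.IdealSheafData.support_comap]
    show b z ∈ C.support
    rw [hzy]
    exact (C.range_subschemeι).le ⟨y, rfl⟩
  have hgd : g d = y := C.subschemeι.isClosedEmbedding.injective (by
    rw [← Scheme.Hom.comp_apply, hg, Scheme.Hom.comp_apply, hd, hzy])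
  haveI : IsRegularLocalRing (C.subscheme.presheaf.stalk (g d)) := by rw [hgd]; infer_instance
  haveI := regular_stalk_of_smooth g d
  haveI := regular_of_cartier hb.1 d
  have hsp : w.1 ⤳ (BlowUp.exceptional b C).subschemeι d := hd ▸ hz
  haveI := regular_of_specializes hsp
  haveI : IsRegularLocalRing (X'.presheaf.stalk ((b ⁻¹ᵁ U).ι w)) := ‹IsRegularLocalRing (X'.presheaf.stalk w.1)›
  haveI : IsRegularLocalRing ((b ⁻¹ᵁ U).toScheme.presheaf.stalk w) :=
    IsRegularLocalRing.of_ringEquiv ((asIso ((b ⁻¹ᵁ U).ι.stalkMap w)).commRingCatIsoToRingEquiv)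
  haveI := IsRegularLocalRing.of_ringEquiv (asIso ((b ∣_ U).stalkMap w)).commRingCatIsoToRingEquiv.symm
  haveI : IsRegularLocalRing (X.presheaf.stalk (U.ι ((b ∣_ U) w))) :=
    IsRegularLocalRing.of_ringEquiv
      ((asIso (U.ι.stalkMap ((b ∣_ U) w))).commRingCatIsoToRingEquiv).symm
  have key : ∀ p : X, p = x₁ → IsRegularLocalRing (X.presheaf.stalk p) → IsRegularLocalRing (X.presheaf.stalk x₁) :=
    fun p hp h => by subst hp; exact h
  exact key (U.ι ((b ∣_ U) w)) hwx inferInstance

end Groth.Agent.BlowExc
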