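import Groth.Agent.LinType.Basic
import Groth.Agent.BlowAlgX.Map
import Groth.Agent.BlowUpLib.Local
import Mathlib.RingTheory.RingHom.Smooth

/-!
# Charts of the exceptional divisor along a regular sequence are polynomial rings
-/

set_option linter.style.haveILetI false

universe u

open MvPolynomial

namespace Groth.Agent.BlowExc

variable {A : Type u} [CommRing A] {n : ℕ}

local notation "Sub" j => {i : Fin n // i ≠ j}

/-- Extend an exponent to degree `d` with the omitted variable. -/
noncomputable def ext (j : Fin n) (d : ℕ) (e : (Sub j) →₀ ℕ) : Fin n →₀ ℕ :=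
  e.mapDomain Subtype.val + Finsupp.single j (d - e.degree)

theorem ext_apply_val (j : Fin n) (d : ℕ) (e : (Sub j) →₀ ℕ) (i : Sub j) : ext j d e i.1 = e i := by
  rw [ext, Finsupp.add_apply, Finsupp.mapDomain_apply Subtype.val_injective,
    Finsupp.single_eq_of_ne i.2, add_zero]

theorem ext_injective (j : Fin n) (d : ℕ) : Function.Injective (ext j d) := fun e e' h =>
  Finsupp.ext fun i => by rw [← ext_apply_val j d e i, h, ext_apply_val]

theorem degree_ext (j : Fin n) (d : ℕ) (e : (Sub j) →₀ ℕ) (he : e.degree ≤ d) : (ext j d e).degree = d := by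
  have h1 : (e.mapDomain Subtype.val).degree = e.degree := by
    rw [Finsupp.degree_eq_weight_one, Finsupp.degree_eq_weight_one]
    exact Finsupp.sum_mapDomain_index (fun _ => by simp) (fun _ _ _ => by simp)
  rw [ext, map_add, h1, Finsupp.degree_single]
  omega

variable (a : Fin n → A) (j : Fin n)

/-- The fractions `a i / a j` evaluate polynomials. -/
noncomputable def frc : (Sub j) → BlowUp.affineAlgebra A (Ideal.span (Set.range a)) (a j) := fun i =>
  ⟨IsLocalization.mk' (Localization.Away (a j)) (a i.1) ⟨a j, Submonoid.mem_powers _⟩,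
    Algebra.subset_adjoin ⟨a i.1, Ideal.subset_span ⟨i.1, rfl⟩, rfl⟩⟩

theorem frc_mul (i : Sub j) :
    algebraMap A _ (a j) * frc a j i =
      algebraMap A (BlowUp.affineAlgebra A (Ideal.span (Set.range a)) (a j)) (a i.1) :=
  Subtype.ext (IsLocalization.mk'_spec' (Localization.Away (a j)) (a i.1) _)

theorem aeval_surjective : Function.Surjective (aeval (R := A) (frc a j)) := by
  intro ⟨q, hq⟩
  suffices h : BlowUp.affineAlgebra A (Ideal.span (Set.range a)) (a j) ≤
      ((aeval (R := A) (frc a j)).range.map (BlowUp.affineAlgebra A _ (a j)).val) by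
    obtain ⟨y, ⟨f, rfl⟩, hy⟩ := h hq
    exact ⟨f, Subtype.ext hy⟩
  set W := (aeval (R := A) (frc a j)).range.map (BlowUp.affineAlgebra A _ (a j)).val
  refine Algebra.adjoin_le ?_
  rintro _ ⟨x, hx, rfl⟩
  refine Submodule.span_induction ?_ ?_ ?_ ?_ hx
  · rintro _ ⟨i, rfl⟩
    by_cases hi : i = j
    · subst hi
      rw [IsLocalization.mk'_self _ (Submonoid.mem_powers (a i))]
      exact one_mem W
    · exact ⟨frc a j ⟨i, hi⟩, ⟨X ⟨i, hi⟩, aeval_X _ _⟩, rfl⟩
  · rw [IsLocalization.mk'_zero]
    exact zero_mem W
  · intro x y _ _ hx hy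
    have : IsLocalization.mk' (Localization.Away (a j)) (x + y) ⟨a j, Submonoid.mem_powers _⟩ =
        IsLocalization.mk' (Localization.Away (a j)) x ⟨a j, Submonoid.mem_powers _⟩ +
          IsLocalization.mk' (Localization.Away (a j)) y ⟨a j, Submonoid.mem_powers _⟩ := by
      rw [IsLocalization.mk'_eq_mul_mk'_one (x + y), map_add, add_mul,
        ← IsLocalization.mk'_eq_mul_mk'_one, ← IsLocalization.mk'_eq_mul_mk'_one]
    rw [this]
    exact add_mem hx hy
  · intro r x _ hx
    rw [smul_eq_mul, ← IsLocalization.smul_mk']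
    exact W.smul_mem hx r

/-- Modulo the exceptional ideal the fractions are independent over `A/I`. -/
theorem coeff_mem (ha : RingTheory.Sequence.IsWeaklyRegular A (List.ofFn a))
    (f : MvPolynomial (Sub j) A)
    (hf : aeval (R := A) (frc a j) f ∈ (Ideal.span (Set.range a)).map
      (algebraMap A (BlowUp.affineAlgebra A (Ideal.span (Set.range a)) (a j))))
    (e : (Sub j) →₀ ℕ) : f.coeff e ∈ Ideal.span (Set.range a) := by
  classical
  set I := Ideal.span (Set.range a)
  set B := BlowUp.affineAlgebra A I (a j)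
  set L := Localization.Away (a j)
  have hjI : a j ∈ I := Ideal.subset_span ⟨j, rfl⟩
  -- a single multiple of the denominator
  obtain ⟨q, hq⟩ : ∃ q : B, algebraMap A B (a j) * q = aeval (R := A) (frc a j) f := by
    have hle : I.map (algebraMap A B) ≤ Ideal.span {algebraMap A B (a j)} := by
      rw [Ideal.map_span, Ideal.span_le]
      rintro _ ⟨_, ⟨i, rfl⟩, rfl⟩
      rw [SetLike.mem_coe, Ideal.mem_span_singleton]
      by_cases hi : i = j
      · subst hi; exact dvd_refl _
      · exact ⟨frc a j ⟨i, hi⟩, (frc_mul a j ⟨i, hi⟩).symm⟩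
    obtain ⟨q, hq⟩ := Ideal.mem_span_singleton.1 (hle hf)
    exact ⟨q, hq.symm⟩
  obtain ⟨m, y, hy, hqy⟩ := BlowAlgX.exists_eq I (a j) hjI q.2
  -- the homogenisation
  let d := f.totalDegree
  let F : MvPolynomial (Fin n) A := ∑ e ∈ f.support, monomial (ext j d e) (f.coeff e)
  have hdeg : ∀ e ∈ f.support, (ext j d e).degree = d := fun e he =>
    degree_ext j d e (le_totalDegree he)
  have hF : F.IsHomogeneous d :=
    IsHomogeneous.sum _ _ _ fun e he => isHomogeneous_monomial _ (hdeg e he)
  let t : Fin n → L := fun i => IsLocalization.mk' L (a i) ⟨a j, Submonoid.mem_powers _⟩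
  have ht : ∀ i, algebraMap A L (a j) * t i = algebraMap A L (a i) := fun i =>
    IsLocalization.mk'_spec' L (a i) _
  have htj : t j = 1 := IsLocalization.mk'_self L (Submonoid.mem_powers (a j))
  have hev : algebraMap A L (eval a F) =
      algebraMap A L (a j) ^ d * ((aeval (R := A) (frc a j) f : B) : L) := by
    conv_rhs => rw [f.as_sum]
    rw [map_sum, map_sum, map_sum, AddSubmonoidClass.coe_finsetSum, Finset.mul_sum]
    refine Finset.sum_congr rfl fun e he => ?_
    rw [eval_monomial, aeval_monomial, Finsupp.prod_fintype _ _ (by simp),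
      Finsupp.prod_fintype _ _ (by simp), map_mul, map_prod, MulMemClass.coe_mul,
      SubmonoidClass.coe_finsetProd]
    have h1 : ∀ i, algebraMap A L (a i ^ ext j d e i) =
        algebraMap A L (a j) ^ ext j d e i * t i ^ ext j d e i := fun i => by
      rw [← mul_pow, ht, map_pow]
    simp only [h1, Finset.prod_mul_distrib, Finset.prod_pow_eq_pow_sum]
    rw [← Finsupp.degree_eq_sum, hdeg e he]
    have h2 : ∏ i, t i ^ ext j d e i = ∏ i : Sub j, ((frc a j i ^ e i : B) : L) := by
      rw [← Finset.prod_subset (Finset.subset_univ (Finset.univ.erase j)) (fun i _ hi => by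
          rw [show i = j by simpa using hi, htj, one_pow]),
        Finset.prod_subtype (Finset.univ.erase j) (p := fun i => i ≠ j) (fun i => by simp)]
      refine Finset.prod_congr rfl fun i _ => ?_
      rw [ext_apply_val, SubmonoidClass.coe_pow]
      rfl
    rw [h2, mul_left_comm]
    rfl
  -- clearing denominators
  have key : algebraMap A L (a j ^ m * eval a F) = algebraMap A L (a j ^ (d + 1) * y) := by
    rw [map_mul, hev, ← hq, map_mul, ← hqy, map_pow, map_pow, MulMemClass.coe_mul,
      show ((algebraMap A B (a j) : B) : L) = algebraMap A L (a j) from rfl]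
    ring
  obtain ⟨⟨_, N, rfl⟩, hN⟩ := IsLocalization.eq_iff_exists (Submonoid.powers (a j)) L |>.1 key
  have hP : ((X j : MvPolynomial (Fin n) A) ^ (N + m) * F).IsHomogeneous (N + m + d) := by
    simpa using ((isHomogeneous_X A j).pow (N + m)).mul hF
  have hmem : eval a ((X j : MvPolynomial (Fin n) A) ^ (N + m) * F) ∈ I ^ (N + m + d + 1) := by
    have hN' : a j ^ N * (a j ^ m * eval a F) = a j ^ N * (a j ^ (d + 1) * y) := hN
    have e : a j ^ (N + m) * eval a F = a j ^ (N + (d + 1)) * y := by
      rw [pow_add, mul_assoc, hN', ← mul_assoc, ← pow_add]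
    rw [map_mul, map_pow, eval_X, e, show N + m + d + 1 = (N + (d + 1)) + m by omega, pow_add I]
    exact Ideal.mul_mem_mul (Ideal.pow_mem_pow hjI _) hy
  have := LinType.quasiRegular a ha hP hmem (Finsupp.single j (N + m) + ext j d e)
  rw [show (X j : MvPolynomial (Fin n) A) ^ (N + m) = monomial (Finsupp.single j (N + m)) 1 from
    X_pow_eq_monomial, coeff_monomial_mul, one_mul] at this
  by_cases he : e ∈ f.support
  · have hc : F.coeff (ext j d e) = f.coeff e := by
      simp only [F, coeff_sum, coeff_monomial]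
      rw [Finset.sum_eq_single e (fun e' _ hne => if_neg fun h => hne (ext_injective j d h))
        (fun h => absurd he h), if_pos rfl]
    rwa [hc] at this
  · rw [notMem_support_iff.1 he]
    exact zero_mem _

/-- The charts of the exceptional divisor are smooth over the centre. -/
theorem smooth_quotientMap (ha : RingTheory.Sequence.IsWeaklyRegular A (List.ofFn a)) :
    RingHom.Smooth (R := A ⧸ Ideal.span (Set.range a))
      (S := BlowUp.affineAlgebra A (Ideal.span (Set.range a)) (a j) ⧸ (Ideal.span (Set.range a)).map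
        (algebraMap A (BlowUp.affineAlgebra A (Ideal.span (Set.range a)) (a j))))
      (Ideal.quotientMap ((Ideal.span (Set.range a)).map
        (algebraMap A (BlowUp.affineAlgebra A (Ideal.span (Set.range a)) (a j))))
        (algebraMap A (BlowUp.affineAlgebra A (Ideal.span (Set.range a)) (a j)))
        Ideal.le_comap_map) := by
  classical
  set I := Ideal.span (Set.range a)
  set B := BlowUp.affineAlgebra A I (a j)
  set J := I.map (algebraMap A B)
  set q := Ideal.quotientMap J (algebraMap A B) Ideal.le_comap_map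
  let ψ : MvPolynomial (Sub j) (A ⧸ I) →+* B ⧸ J :=
    eval₂Hom q fun i => Ideal.Quotient.mk J (frc a j i)
  have hψ : ∀ f : MvPolynomial (Sub j) A,
      ψ (MvPolynomial.map (Ideal.Quotient.mk I) f) = Ideal.Quotient.mk J (aeval (R := A) (frc a j) f) :=
    fun f => RingHom.congr_fun (ringHom_ext (f := ψ.comp (MvPolynomial.map (Ideal.Quotient.mk I)))
      (g := (Ideal.Quotient.mk J).comp (aeval (R := A) (frc a j)).toRingHom)
      (fun r => by simp [ψ, q]; rfl) (fun i => by simp [ψ])) f
  have hbij : Function.Bijective ψ := by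
    constructor
    · rw [injective_iff_map_eq_zero]
      intro fb hfb
      obtain ⟨f, rfl⟩ := MvPolynomial.map_surjective _ Ideal.Quotient.mk_surjective fb
      rw [hψ, Ideal.Quotient.eq_zero_iff_mem] at hfb
      refine MvPolynomial.ext _ _ fun e => ?_
      rw [coeff_map, coeff_zero, Ideal.Quotient.eq_zero_iff_mem]
      exact coeff_mem a j ha f hfb e
    · intro z
      obtain ⟨z, rfl⟩ := Ideal.Quotient.mk_surjective z
      obtain ⟨f, rfl⟩ := aeval_surjective a j z
      exact ⟨MvPolynomial.map (Ideal.Quotient.mk I) f, hψ f⟩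
  have : q = ψ.comp (C : A ⧸ I →+* MvPolynomial (Sub j) (A ⧸ I)) := RingHom.ext fun r => by
    simp [ψ]
  rw [this]
  refine RingHom.Smooth.comp ?_ (RingHom.Smooth.of_bijective hbij)
  rw [← MvPolynomial.algebraMap_eq]
  exact RingHom.smooth_algebraMap.2 ⟨inferInstance, inferInstance⟩

end Groth.Agent.BlowExc
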