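import Groth.Agent.BlowExc.Chart
import Groth.Agent.BlowUpLib.Glue
import Groth.Prelude.Def_Mor2
import Mathlib.AlgebraicGeometry.Morphisms.Smooth

/-!
# The exceptional divisor of blowing up a regular centre is smooth over the centre
-/

set_option linter.style.haveILetI false

universe u

open CategoryTheory Limits AlgebraicGeometry

namespace Groth.Agent.BlowExc

open Groth.Agent.BlowUpLib

theorem ker_SpecMap_mk {R : Type u} [CommRing R] (J : Ideal R) :
    (Spec.map (CommRingCat.ofHom (Ideal.Quotient.mk J))).ker = centre J := by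
  refine Scheme.IdealSheafData.ext_of_isAffine ?_
  rw [centre_top, Scheme.Hom.ker_apply]
  show RingHom.ker (Spec.map (CommRingCat.ofHom (Ideal.Quotient.mk J))).appTop.hom = _
  ext z
  obtain ⟨r, rfl⟩ := (ConcreteCategory.bijective_of_isIso (Scheme.ΓSpecIso (CommRingCat.of R)).inv).2 z
  rw [Ideal.mem_map_iff_of_surjective _
    (ConcreteCategory.bijective_of_isIso (Scheme.ΓSpecIso (CommRingCat.of R)).inv).2, RingHom.mem_ker]
  rw [show (Spec.map (CommRingCat.ofHom (Ideal.Quotient.mk J))).appTop.hom
      ((Scheme.ΓSpecIso (CommRingCat.of R)).inv.hom r) =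
      (Scheme.ΓSpecIso (CommRingCat.of (R ⧸ J))).inv.hom (Ideal.Quotient.mk J r) from
    (ConcreteCategory.congr_hom (Scheme.ΓSpecIso_inv_naturality (CommRingCat.ofHom (Ideal.Quotient.mk J))) r).symm,
    map_eq_zero_iff _ (ConcreteCategory.bijective_of_isIso (Scheme.ΓSpecIso (CommRingCat.of (R ⧸ J))).inv).1,
    Ideal.Quotient.eq_zero_iff_mem]
  exact ⟨fun h => ⟨r, h, rfl⟩, fun ⟨r', h, e⟩ =>
    (ConcreteCategory.bijective_of_isIso (Scheme.ΓSpecIso (CommRingCat.of R)).inv).1 e ▸ h⟩

/-- Pulling the centre back to another affine scheme. -/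
theorem centre_comap {A B : Type u} [CommRing A] [CommRing B] (φ : A →+* B) (I : Ideal A) :
    (centre I).comap (Spec.map (CommRingCat.ofHom φ)) = centre (I.map φ) := by
  refine Scheme.IdealSheafData.ext_of_isAffine ?_
  rw [ModPairLib.comap_ideal_affine, centre_top, centre_top, Ideal.map_map, ← CommRingCat.hom_comp,
    ← Scheme.ΓSpecIso_inv_naturality, CommRingCat.hom_comp, ← Ideal.map_map, CommRingCat.hom_ofHom]

/-- A closed immersion seen on an affine chart of the target. -/
theorem exists_chart {Z X : Scheme.{u}} (ι : Z ⟶ X) [IsClosedImmersion ι] {R : Type u} [CommRing R]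
    (c : Spec (CommRingCat.of R) ⟶ X) [IsOpenImmersion c] (J : Ideal R)
    (hJ : ι.ker.comap c = centre J) :
    ∃ t : Spec (CommRingCat.of (R ⧸ J)) ⟶ Z, IsOpenImmersion t ∧
      t ≫ ι = Spec.map (CommRingCat.ofHom (Ideal.Quotient.mk J)) ≫ c ∧
      ∀ z, ι z ∈ Set.range c → z ∈ Set.range t := by
  haveI : IsClosedImmersion (Spec.map (CommRingCat.ofHom (Ideal.Quotient.mk J))) :=
    IsClosedImmersion.spec_of_surjective _ Ideal.Quotient.mk_surjective
  have hker : (pullback.fst c ι).ker = (Spec.map (CommRingCat.ofHom (Ideal.Quotient.mk J))).ker := by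
    rw [Scheme.IdealSheafData.ker_fst_of_isClosedImmersion, hJ, ker_SpecMap_mk]
  let t₀ := IsClosedImmersion.lift (pullback.fst c ι)
    (Spec.map (CommRingCat.ofHom (Ideal.Quotient.mk J))) hker.le
  haveI : IsIso t₀ := IsClosedImmersion.isIso_lift _ _ hker
  refine ⟨t₀ ≫ pullback.snd c ι, inferInstance, ?_, fun z ⟨w, hw⟩ => ?_⟩
  · rw [Category.assoc, ← pullback.condition, ← Category.assoc, IsClosedImmersion.lift_fac]
  · obtain ⟨p, -, hp⟩ := Scheme.Pullback.exists_preimage_pullback w z hw
    obtain ⟨p', rfl⟩ := t₀.homeomorph.surjective p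
    exact ⟨p', hp⟩

theorem smooth_exceptional {X X' Y : Scheme.{u}} (i : Y ⟶ X) (hi : Mor2.IsRegularClosedImmersion i)
    (b : X' ⟶ X) (hb : BlowUp.IsBlowUp b i.ker) (g : (BlowUp.exceptional b i.ker).subscheme ⟶ Y)
    (hg : g ≫ i = (BlowUp.exceptional b i.ker).subschemeι ≫ b) : Smooth g := by
  haveI := hi.1
  have main : ∀ e, ∃ (R : CommRingCat.{u}) (t : Spec R ⟶ (BlowUp.exceptional b i.ker).subscheme)
      (_ : IsOpenImmersion t), e ∈ Set.range t ∧ Smooth (t ≫ g) := by
    intro e
    obtain ⟨U, hU, hyU, rs, hrs, hI⟩ := hi.2 (g e)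
    let A := Γ(X, U)
    let a : Fin rs.length → A := rs.get
    let I : Ideal A := Ideal.span (Set.range a)
    have hIU : i.ker.ideal ⟨U, hU⟩ = I := by
      rw [hI, Ideal.ofList]
      congr 1
      ext x
      exact List.mem_iff_get
    have ha : RingTheory.Sequence.IsWeaklyRegular A (List.ofFn a) := by
      rw [List.ofFn_get]; exact hrs.toIsWeaklyRegular
    have hCq : i.ker.comap hU.fromSpec = centre I := by
      rw [← hIU]; exact comap_fromSpec i.ker ⟨U, hU⟩
    -- the blow-up over the chart
    have h1 := isBlowUp_of_isPullback (IsPullback.of_hasPullback hU.fromSpec b) hb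
    rw [hCq] at h1
    obtain ⟨ε, hε⟩ := exists_iso (isBlowUp_local I) h1
    let j : localBlowUp I ⟶ X' := ε.hom ≫ pullback.snd hU.fromSpec b
    have hjb : j ≫ b = toBase I ≫ hU.fromSpec := by
      rw [Category.assoc, ← pullback.condition, ← Category.assoc, hε]
    let x := (BlowUp.exceptional b i.ker).subschemeι e
    have hx : b x ∈ Set.range hU.fromSpec := by
      rw [hU.range_fromSpec, ← Scheme.Hom.comp_apply, ← hg, Scheme.Hom.comp_apply]
      exact hyU
    obtain ⟨v, hv⟩ := hx
    obtain ⟨p, -, hp⟩ := Scheme.Pullback.exists_preimage_pullback v x hv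
    obtain ⟨z, rfl⟩ := ε.hom.homeomorph.surjective p
    have hjz : j z = x := hp
    obtain ⟨k, hk⟩ : ∃ k : Fin rs.length, z ∈ (chart I ⟨a k, Ideal.subset_span ⟨k, rfl⟩⟩).opensRange := by
      obtain ⟨a', ha'⟩ := chart_covers I z
      rw [opensRange_chart] at ha'
      by_contra hno
      push Not at hno
      apply ha'
      have hle : ∀ r (hr : r ∈ I), gen I ⟨r, hr⟩ ∈ z.asHomogeneousIdeal := by
        intro r hr
        refine Submodule.span_induction (p := fun r hr => gen I ⟨r, hr⟩ ∈ z.asHomogeneousIdeal) ?_ ?_ ?_ ?_ hr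
        · rintro _ ⟨k, rfl⟩
          by_contra h
          exact hno k (by rw [opensRange_chart]; exact h)
        · show _ ∈ z.asHomogeneousIdeal.toIdeal
          convert zero_mem z.asHomogeneousIdeal.toIdeal using 1
          refine Subtype.ext ?_
          show Polynomial.monomial 1 (0 : A) = 0
          exact map_zero _
        · intro r s _ _ h h'
          convert add_mem h h' using 1
          exact Subtype.ext (by simp [gen])
        · intro c r _ h
          show _ ∈ z.asHomogeneousIdeal.toIdeal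
          convert Ideal.mul_mem_left z.asHomogeneousIdeal.toIdeal (algebraMap A _ c) h using 1
          refine Subtype.ext ?_
          show Polynomial.monomial 1 (c * r) = Polynomial.C c * Polynomial.monomial 1 r
          rw [Polynomial.C_mul_monomial]
      exact hle a'.1 a'.2
    obtain ⟨w, rfl⟩ := hk
    let φ := algebraMap A (BlowUp.affineAlgebra A I (a k))
    let c : Spec (CommRingCat.of (BlowUp.affineAlgebra A I (a k))) ⟶ X' :=
      chart I ⟨a k, Ideal.subset_span ⟨k, rfl⟩⟩ ≫ j
    have hcb : c ≫ b = Spec.map (CommRingCat.ofHom φ) ≫ hU.fromSpec := by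
      rw [Category.assoc, hjb, ← Category.assoc, chart_toBase]
    have hCc : (BlowUp.exceptional b i.ker).subschemeι.ker.comap c = centre (I.map φ) := by
      rw [Scheme.IdealSheafData.ker_subschemeι, ← Scheme.IdealSheafData.comap_comp, hcb,
        Scheme.IdealSheafData.comap_comp, hCq, centre_comap]
    obtain ⟨t, ht, htι, htr⟩ := exists_chart (BlowUp.exceptional b i.ker).subschemeι c (I.map φ) hCc
    obtain ⟨s, hs, hsι, -⟩ := exists_chart i hU.fromSpec I hCq
    refine ⟨_, t, ht, htr e ⟨w, hjz⟩, ?_⟩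
    let q : CommRingCat.of (A ⧸ I) ⟶ CommRingCat.of (BlowUp.affineAlgebra A I (a k) ⧸ I.map φ) :=
      CommRingCat.ofHom (Ideal.quotientMap (I.map φ) φ Ideal.le_comap_map)
    have htg : t ≫ g = Spec.map q ≫ s := by
      rw [← cancel_mono i, Category.assoc, hg, ← Category.assoc, htι, Category.assoc, hcb,
        Category.assoc, hsι, ← Category.assoc, ← Category.assoc, ← Spec.map_comp, ← Spec.map_comp]
      rfl
    haveI : Smooth (Spec.map q) :=
      (HasRingHomProperty.Spec_iff (P := @Smooth)).2 (smooth_quotientMap a k ha)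
    rw [htg]
    infer_instance
  choose R t ht hmem hsm using main
  haveI : IsZariskiLocalAtSource @Smooth.{u} := HasRingHomProperty.instIsZariskiLocalAtSource
  refine IsZariskiLocalAtSource.of_openCover (P := @Smooth.{u})
    (Scheme.Cover.mkOfCovers (P := @IsOpenImmersion) _ (fun e => Spec (R e)) t
      (fun e => ⟨e, hmem e⟩) ht) hsm

end Groth.Agent.BlowExc
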