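import Groth.Agent.BlowExc.Main
import Groth.Agent.BlowExc.Regular
import Groth.Agent.KRegLib.Closed
import Groth.Agent.S5033

/-!
# Blowing up a regular centre in a regular scheme
-/

set_option linter.style.haveILetI false
set_option backward.isDefEq.respectTransparency.types false

universe u

open CategoryTheory Limits AlgebraicGeometry RingTheory.Sequence

namespace Groth.Agent.BlowExc

/-- The quotient of a localization by the kernel of a surjection is the localization of the image. -/
theorem exists_quotient_localization_equiv {A B : Type u} [CommRing A] [CommRing B] (ψ : A →+* B)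
    (hψ : Function.Surjective ψ) (q : Ideal B) [q.IsPrime] :
    Nonempty ((Localization.AtPrime (q.comap ψ) ⧸
      (RingHom.ker ψ).map (algebraMap A (Localization.AtPrime (q.comap ψ)))) ≃+* Localization.AtPrime q) := by
  let θ := Localization.localRingHom (q.comap ψ) q ψ rfl
  have hs : Function.Surjective θ := by
    intro z
    obtain ⟨b, s, rfl⟩ := IsLocalization.exists_mk'_eq q.primeCompl z
    obtain ⟨a, rfl⟩ := hψ b
    obtain ⟨t, ht⟩ := hψ s.1
    refine ⟨IsLocalization.mk' _ a (⟨t, fun h => s.2 (ht ▸ h)⟩ : (q.comap ψ).primeCompl), ?_⟩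
    rw [Localization.localRingHom_mk']
    congr 1
    exact Subtype.ext ht
  have hker : RingHom.ker θ = (RingHom.ker ψ).map (algebraMap A (Localization.AtPrime (q.comap ψ))) := by
    refine le_antisymm (fun z hz => ?_) (Ideal.map_le_iff_le_comap.2 fun a ha => ?_)
    · obtain ⟨a, s, rfl⟩ := IsLocalization.exists_mk'_eq (q.comap ψ).primeCompl z
      rw [RingHom.mem_ker, Localization.localRingHom_mk', IsLocalization.mk'_eq_zero_iff] at hz
      obtain ⟨⟨t, ht⟩, hta⟩ := hz
      obtain ⟨t', rfl⟩ := hψ t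
      rw [IsLocalization.mem_map_algebraMap_iff (q.comap ψ).primeCompl]
      refine ⟨⟨⟨t' * a, by rw [RingHom.mem_ker, map_mul]; exact hta⟩,
        ⟨t' * s.1, fun h => (Ideal.IsPrime.mem_or_mem inferInstance h).elim ht s.2⟩⟩, ?_⟩
      rw [map_mul, map_mul, mul_comm (algebraMap A _ t'), ← mul_assoc, IsLocalization.mk'_spec]
      exact mul_comm _ _
    · rw [Ideal.mem_comap, RingHom.mem_ker, Localization.localRingHom_to_map,
        RingHom.mem_ker.1 ha, map_zero]
  exact ⟨(Ideal.quotEquivOfEq hker.symm).trans (RingHom.quotientKerEquivOfSurjective hs)⟩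

/-- A closed immersion of regular schemes is a regular immersion. -/
theorem regClosed_of_regular {Z X : Scheme.{u}} (i : Z ⟶ X) [IsClosedImmersion i] [IsLocallyNoetherian X]
    (hX : ∀ x : X, IsRegularLocalRing (X.presheaf.stalk x))
    (hZ : ∀ z : Z, IsRegularLocalRing (Z.presheaf.stalk z)) : Mor2.IsRegularClosedImmersion i := by
  refine ⟨inferInstance, fun z => ?_⟩
  obtain ⟨D, hD, hzD, -⟩ := exists_isAffineOpen_mem_and_subset (U := ⊤) (x := i z) trivial
  have hU : IsAffineOpen (i ⁻¹ᵁ D) := hD.preimage i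
  haveI : IsNoetherianRing Γ(X, D) := IsLocallyNoetherian.component_noetherian ⟨D, hD⟩
  let ψ := (i.app D).hom
  have hs : Function.Surjective ψ := i.app_surjective D hD
  let 𝔮 := (hU.primeIdealOf ⟨z, hzD⟩).asIdeal
  have hp : (hD.primeIdealOf ⟨i z, hzD⟩).asIdeal = 𝔮.comap ψ := by
    rw [show ψ = (i.appLE D (i ⁻¹ᵁ D) le_rfl).hom by simp only [ψ, Scheme.Hom.app_eq_appLE]]
    exact (congrArg PrimeSpectrum.asIdeal
      (IsAffineOpen.comap_primeIdealOf_appLE (f := i) D hD (i ⁻¹ᵁ D) hU le_rfl hzD)).symm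
  obtain ⟨eX⟩ := SchTop.nonempty_stalk_equiv hD hzD
  obtain ⟨eZ⟩ := SchTop.nonempty_stalk_equiv hU hzD
  haveI := hX (i z)
  haveI := hZ z
  haveI := IsRegularLocalRing.of_ringEquiv eX
  haveI := regular_atPrime_congr hp
  haveI := IsRegularLocalRing.of_ringEquiv eZ
  obtain ⟨eq⟩ := exists_quotient_localization_equiv ψ hs 𝔮
  haveI := IsRegularLocalRing.of_ringEquiv eq.symm
  obtain ⟨rs, hrs, hI⟩ := (S5033.result (Localization.AtPrime (𝔮.comap ψ))
    ((RingHom.ker ψ).map (algebraMap _ _))).1 inferInstance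
  obtain ⟨g, hg, rs', hrs', hrsI⟩ := KRegLib.exists_away_isRegular_of_atPrime (RingHom.ker ψ) (𝔮.comap ψ)
    (fun x hx => by rw [Ideal.mem_comap, RingHom.mem_ker.1 hx]; exact zero_mem _) rs.get
    (by rw [List.ofFn_get]; exact hrs.toIsWeaklyRegular)
    (by rw [← hI, Ideal.ofList]; congr 1; ext x; exact List.mem_iff_get.symm)
  rw [← hp] at hg
  letI : Algebra Γ(X, D) Γ(X, X.basicOpen g) := (X.presheaf.map (homOfLE (X.basicOpen_le g)).op).hom.toAlgebra
  haveI : IsLocalization.Away g Γ(X, X.basicOpen g) := hD.isLocalization_basicOpen g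
  let e : Localization.Away g ≃ₐ[Γ(X, D)] Γ(X, X.basicOpen g) :=
    IsLocalization.algEquiv (Submonoid.powers g) _ _
  have hzg : i z ∈ X.basicOpen g := by
    rw [← hD.fromSpec_image_basicOpen g]
    exact ⟨hD.primeIdealOf ⟨i z, hzD⟩, hg, hD.fromSpec_primeIdealOf _⟩
  refine ⟨X.basicOpen g, hD.basicOpen g, hzg, rs'.map e, ?_, ?_⟩
  · refine (AddEquiv.isRegular_congr (e := e.toRingEquiv.toAddEquiv) (as := rs') (bs := rs'.map e) ?_).1 hrs'
    exact List.forall₂_map_right_iff.2 (List.forall₂_same.2 fun x _ y => map_mul e x y)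
  · obtain ⟨hD', hDs⟩ := Synt29.surjective_app_of_isClosedImmersion_restrict i D hD
    rw [Scheme.Hom.ker_apply]
    refine Eq.trans (KRegLib.app_basicOpen_props i hD hD' hDs g).2.2 ?_
    have h4 : (Ideal.ofList rs').map e.toRingEquiv.toRingHom = Ideal.ofList (rs'.map e) := Ideal.map_ofList _ _
    rw [← h4, hrsI, Ideal.map_map]
    congr 1
    exact (RingHom.ext fun x => (e.commutes x)).symm

/-- The blow-up of a regular scheme along a regular centre is regular. -/
theorem regular_blowUp {X X' Y : Scheme.{u}} [IsLocallyNoetherian X] (i : Y ⟶ X) [IsClosedImmersion i]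
    (hX : ∀ x : X, IsRegularLocalRing (X.presheaf.stalk x))
    (hY : ∀ y : Y, IsRegularLocalRing (Y.presheaf.stalk y))
    (b : X' ⟶ X) (hb : BlowUp.IsBlowUp b i.ker) (z : X') : IsRegularLocalRing (X'.presheaf.stalk z) := by
  have hft : BlowUp.IsFiniteTypeIdeal i.ker := fun U => by
    haveI : IsNoetherianRing Γ(X, U) := IsLocallyNoetherian.component_noetherian U
    exact IsNoetherian.noetherian _
  haveI : IsProper b := BlowUpLib.isProper_of_isBlowUp i.ker hb hft
  haveI : IsLocallyNoetherian X' := LocallyOfFiniteType.isLocallyNoetherian b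
  haveI : IsLocallyNoetherian Y := LocallyOfFiniteType.isLocallyNoetherian i
  by_cases hz : b z ∈ i.ker.support
  · obtain ⟨d, rfl⟩ : z ∈ Set.range (BlowUp.exceptional b i.ker).subschemeι := by
      rw [Scheme.IdealSheafData.range_subschemeι, BlowUp.exceptional, Scheme.IdealSheafData.support_comap]
      exact hz
    let g₀ := IsClosedImmersion.lift i ((BlowUp.exceptional b i.ker).subschemeι ≫ b) (by
      rw [Scheme.Hom.ker_comp, Scheme.IdealSheafData.ker_subschemeι]
      exact Scheme.IdealSheafData.le_map_comap _ _)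
    haveI : Smooth g₀ := smooth_exceptional i (regClosed_of_regular i hX hY) b hb g₀ (IsClosedImmersion.lift_fac _ _ _)
    haveI := hY (g₀ d)
    haveI := regular_stalk_of_smooth g₀ d
    exact regular_of_cartier hb.1 d
  · let U : X.Opens := i.ker.support.compl
    haveI : IsIso (b ∣_ U) := BlowUpX.isIso_restrict hb
    let w : ↥(b ⁻¹ᵁ U) := ⟨z, hz⟩
    haveI := hX (U.ι ((b ∣_ U) w))
    haveI : IsRegularLocalRing (U.toScheme.presheaf.stalk ((b ∣_ U) w)) :=
      IsRegularLocalRing.of_ringEquiv (asIso (U.ι.stalkMap ((b ∣_ U) w))).commRingCatIsoToRingEquiv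
    haveI := IsRegularLocalRing.of_ringEquiv (asIso ((b ∣_ U).stalkMap w)).commRingCatIsoToRingEquiv
    exact IsRegularLocalRing.of_ringEquiv
      ((asIso ((b ⁻¹ᵁ U).ι.stalkMap w)).commRingCatIsoToRingEquiv).symm

end Groth.Agent.BlowExc
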